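import Mathlib

/-! Purity for maps of smooth algebras of the same relative dimension: unramified in height one implies etale. -/

set_option autoImplicit false
universe u

open TensorProduct

noncomputable section

namespace EtaleDetLib

variable (A C B : Type u) [CommRing A] [CommRing C] [CommRing B] [Algebra A C] [Algebra A B] [Algebra C B]
  [IsScalarTower A C B]

/-- A map of smooth algebras is etale if the map of differentials is bijective. -/
theorem formallyEtale_of_bijective [Algebra.FormallySmooth A B]
    (h : Function.Bijective (KaehlerDifferential.mapBaseChange A C B)) : Algebra.FormallyEtale C B := by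
  refine ⟨?_, ?_⟩
  · refine ⟨fun x y => ?_⟩
    obtain ⟨x, rfl⟩ := KaehlerDifferential.map_surjective A C B x
    obtain ⟨y, rfl⟩ := KaehlerDifferential.map_surjective A C B y
    obtain ⟨x, rfl⟩ := h.2 x
    obtain ⟨y, rfl⟩ := h.2 y
    rw [(KaehlerDifferential.exact_mapBaseChange_map A C B).apply_apply_eq_zero x,
      (KaehlerDifferential.exact_mapBaseChange_map A C B).apply_apply_eq_zero y]
  · refine ⟨fun x y => ?_⟩
    have key : ∀ z, Algebra.H1Cotangent.δ A C B z = 0 := fun z =>
      h.1 (((Algebra.H1Cotangent.exact_δ_mapBaseChange A C B).apply_apply_eq_zero z).trans (map_zero _).symm)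
    obtain ⟨x, rfl⟩ := (Algebra.H1Cotangent.exact_map_δ A C B x).1 (key x)
    obtain ⟨y, rfl⟩ := (Algebra.H1Cotangent.exact_map_δ A C B y).1 (key y)
    rw [Subsingleton.elim x y]

variable {n : ℕ} (bC : Module.Basis (Fin n) C Ω[C⁄A]) (bB : Module.Basis (Fin n) B Ω[B⁄A])

/-- The Jacobian determinant. -/
def jac : B :=
  (LinearMap.toMatrix (Algebra.TensorProduct.basis B bC) bB (KaehlerDifferential.mapBaseChange A C B)).det

/-- At an unramified prime the Jacobian determinant is a unit. -/
theorem jac_notMem (P : Ideal B) [P.IsPrime] [Algebra.IsUnramifiedAt C P] : jac A C B bC bB ∉ P := by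
  let bT := Algebra.TensorProduct.basis B bC
  let L := KaehlerDifferential.mapBaseChange A C B
  let M := LinearMap.toMatrix bT bB L
  have hnot : (⟨P, ‹_›⟩ : PrimeSpectrum B) ∉ Module.support B Ω[B⁄C] := by
    have h : (⟨P, ‹_›⟩ : PrimeSpectrum B) ∈ Algebra.unramifiedLocus C B := ‹Algebra.IsUnramifiedAt C P›
    rw [Algebra.unramifiedLocus_eq_compl_support] at h
    exact h
  rw [Module.notMem_support_iff'] at hnot
  choose g hg hgz using fun i => hnot (KaehlerDifferential.map A C B B (bB i))
  let G := ∏ i, g i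
  have hG : G ∉ P := fun hc => by
    obtain ⟨i, -, hi⟩ := (Ideal.IsPrime.prod_mem_iff ..).1 hc
    exact hg i hi
  have hv : ∀ i, ∃ v, L v = G • bB i := fun i => by
    refine (KaehlerDifferential.exact_mapBaseChange_map A C B _).1 ?_
    obtain ⟨c, hc⟩ : g i ∣ G := Finset.dvd_prod_of_mem g (Finset.mem_univ i)
    rw [map_smul, hc, mul_comm, mul_smul, hgz, smul_zero]
  choose v hv using hv
  let N : Matrix (Fin n) (Fin n) B := Matrix.of fun j i => bT.repr (v i) j
  have hMN : M * N = G • 1 := by
    refine Matrix.ext fun k i => ?_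
    have h1 : (M * N) k i = M.mulVec (bT.repr (v i)) k := rfl
    rw [h1, LinearMap.toMatrix_mulVec_repr, hv, map_smul, Module.Basis.repr_self]
    by_cases hki : k = i
    · subst hki; simp
    · simp [Finsupp.single_eq_of_ne, hki]
  intro hc
  have h2 : M.det * N.det = G ^ n := by
    rw [← Matrix.det_mul, hMN, Matrix.det_smul, Matrix.det_one, mul_one, Fintype.card_fin]
  exact hG (Ideal.IsPrime.mem_of_pow_mem ‹_› n (h2 ▸ Ideal.mul_mem_right _ _ hc))

/-- Purity: unramified at the primes of height at most one implies etale. -/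
theorem formallyEtale_of_unramified_height_le_one [IsNoetherianRing B] [Algebra.FormallySmooth A B]
    (bC : Module.Basis (Fin n) C Ω[C⁄A]) (bB : Module.Basis (Fin n) B Ω[B⁄A])
    (h : ∀ (P : Ideal B) [P.IsPrime], P.height ≤ 1 → Algebra.IsUnramifiedAt C P) :
    Algebra.FormallyEtale C B := by
  let bT := Algebra.TensorProduct.basis B bC
  let M := LinearMap.toMatrix bT bB (KaehlerDifferential.mapBaseChange A C B)
  have hu : IsUnit M.det := by
    by_contra hu
    obtain ⟨m, hm, hle⟩ := Ideal.exists_le_maximal (Ideal.span {M.det})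
      (by rwa [Ne, Ideal.span_singleton_eq_top])
    haveI := hm.isPrime
    obtain ⟨P, hP, -⟩ := Ideal.exists_minimalPrimes_le hle
    haveI := hP.isPrime
    haveI : (Ideal.span {M.det}).IsPrincipal := ⟨⟨M.det, rfl⟩⟩
    haveI := h P (Ideal.height_le_one_of_isPrincipal_of_mem_minimalPrimes _ P hP)
    exact jac_notMem A C B bC bB P (hP.1.2 (Ideal.subset_span rfl))
  refine formallyEtale_of_bijective A C B ?_
  have h1 : (Matrix.toLin bB bT M⁻¹).comp (Matrix.toLin bT bB M) = LinearMap.id := by
    rw [← Matrix.toLin_mul, Matrix.nonsing_inv_mul _ hu, Matrix.toLin_one]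
  have h2 : (Matrix.toLin bT bB M).comp (Matrix.toLin bB bT M⁻¹) = LinearMap.id := by
    rw [← Matrix.toLin_mul, Matrix.mul_nonsing_inv _ hu, Matrix.toLin_one]
  have hL : Matrix.toLin bT bB M = KaehlerDifferential.mapBaseChange A C B := Matrix.toLin_toMatrix _ _ _
  rw [← hL]
  exact Function.bijective_iff_has_inverse.2 ⟨_, fun x => LinearMap.congr_fun h1 x, fun x => LinearMap.congr_fun h2 x⟩

/-- Etale algebras preserve the rank of the differentials. -/
theorem rank_eq_of_etale {m : ℕ} (B' : Type u) [CommRing B'] [Nontrivial B'] [Algebra A B'] [Algebra C B']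
    [Algebra B B'] [IsScalarTower A C B'] [IsScalarTower A B B'] [Algebra.FormallyEtale C B']
    [Algebra.FormallyEtale B B'] (bC : Module.Basis (Fin n) C Ω[C⁄A]) (bB : Module.Basis (Fin m) B Ω[B⁄A]) :
    n = m := by
  let e₁ := KaehlerDifferential.tensorKaehlerEquivOfFormallyEtale A C B'
  let e₂ := KaehlerDifferential.tensorKaehlerEquivOfFormallyEtale A B B'
  let b₁ := (Algebra.TensorProduct.basis B' bC).map e₁
  let b₂ := (Algebra.TensorProduct.basis B' bB).map e₂
  simpa using Fintype.card_congr (b₁.indexEquiv b₂)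

end EtaleDetLib
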