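import Groth.Agent.EtaleDetLib.Algebra
import Groth.Agent.UOpenLib.Criterion

/-! A morphism of smooth schemes which is etale on a dense open containing the points of codimension
at most one is etale. -/

set_option autoImplicit false
universe u

open CategoryTheory AlgebraicGeometry

noncomputable section

namespace EtaleDetLib

/-- The differentials on an affine chart, with respect to a given affine open of the base. -/
def HasBasis {X S : Scheme.{u}} (p : X ⟶ S) (W : S.Opens) (U : X.Opens) (e : U ≤ p ⁻¹ᵁ W) (n : ℕ) : Prop :=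
  letI := (p.appLE W U e).hom.toAlgebra
  Nonempty (Module.Basis (Fin n) Γ(X, U) Ω[Γ(X, U)⁄Γ(S, W)])

/-- Smooth schemes have charts with free differentials inside any open. -/
theorem exists_chart {X S : Scheme.{u}} (p : X ⟶ S) [Smooth p] {W : S.Opens} (hW : IsAffineOpen W) (O : X.Opens)
    (x : X) (hxO : x ∈ O) (hxW : p x ∈ W) :
    ∃ (U : X.Opens) (_ : IsAffineOpen U) (e : U ≤ p ⁻¹ᵁ W) (n : ℕ), x ∈ U ∧ U ≤ O ∧ HasBasis p W U e n := by
  obtain ⟨V, hV, hxV, hVO⟩ := exists_isAffineOpen_mem_and_subset (X := X) (U := O ⊓ p ⁻¹ᵁ W) (x := x) ⟨hxO, hxW⟩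
  have eV : V ≤ p ⁻¹ᵁ W := fun y hy => (hVO hy).2
  letI := (p.appLE W V eV).hom.toAlgebra
  haveI : Algebra.Smooth Γ(S, W) Γ(X, V) := p.smooth_appLE hW hV eV
  obtain ⟨t, ht, hstd⟩ := Algebra.IsSmoothAt.exists_notMem_isStandardSmooth Γ(S, W) (hV.primeIdealOf ⟨x, hxV⟩).asIdeal
  let U := X.basicOpen t
  have hxU : x ∈ U := by
    have h2 : hV.primeIdealOf ⟨x, hxV⟩ ∈ PrimeSpectrum.basicOpen t := ht
    rw [← hV.fromSpec_preimage_basicOpen] at h2
    change hV.fromSpec (hV.primeIdealOf ⟨x, hxV⟩) ∈ X.basicOpen t at h2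
    rwa [hV.fromSpec_primeIdealOf ⟨x, hxV⟩] at h2
  have eU : U ≤ p ⁻¹ᵁ W := (X.basicOpen_le t).trans eV
  letI : Algebra Γ(S, W) Γ(X, U) := (p.appLE W U eU).hom.toAlgebra
  haveI : IsScalarTower Γ(S, W) Γ(X, V) Γ(X, U) := IsScalarTower.of_algebraMap_eq' (by
    exact congrArg CommRingCat.Hom.hom (p.appLE_map eV (homOfLE (X.basicOpen_le t)).op).symm)
  haveI := hV.isLocalization_basicOpen t
  haveI := hstd
  haveI : Algebra.IsStandardSmooth Γ(S, W) Γ(X, U) :=
    Algebra.IsStandardSmooth.of_algEquiv ((Localization.algEquiv (Submonoid.powers t) Γ(X, U)).restrictScalars Γ(S, W))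
  haveI : Nonempty U := ⟨⟨x, hxU⟩⟩
  exact ⟨U, hV.basicOpen t, eU, _, hxU, fun y hy => (hVO (X.basicOpen_le t hy)).1,
    ⟨Module.finBasis Γ(X, U) Ω[Γ(X, U)⁄Γ(S, W)]⟩⟩

/-- Etale on a dense open containing the points of codimension at most one implies etale. -/
theorem etale_of_codim_one {G H S : Scheme.{u}} [IsLocallyNoetherian S] (pG : G ⟶ S) (pH : H ⟶ S)
    [Smooth pG] [Smooth pH] (f : G ⟶ H) (hf : f ≫ pH = pG) (D : G.Opens) (hD : Dense (D : Set G))
    [Etale (D.ι ≫ f)] (hcodim : ∀ g : G, ringKrullDim (G.presheaf.stalk g) ≤ 1 → g ∈ D) : Etale f := by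
  haveI : IsLocallyNoetherian H := LocallyOfFiniteType.isLocallyNoetherian pH
  haveI : IsLocallyNoetherian G := LocallyOfFiniteType.isLocallyNoetherian pG
  subst hf
  haveI : LocallyOfFiniteType (f ≫ pH) := inferInstance
  haveI : LocallyOfFiniteType f := locallyOfFiniteType_of_comp f pH
  haveI : LocallyOfFinitePresentation f := UOpenLib.locallyOfFinitePresentation_of_isLocallyNoetherian f
  rw [HasRingHomProperty.iff_exists_appLE (P := @Etale) (f := f)
    (fun R S T _ _ _ _ r _ g hg => RingHom.Etale.stableUnderComposition _ _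
      (RingHom.etale_algebraMap.2 (Algebra.Etale.of_isLocalizationAway r)) hg)]
  intro x
  obtain ⟨W, hW, hxW, -⟩ := exists_isAffineOpen_mem_and_subset (X := S) (U := ⊤) (x := (f ≫ pH) x) trivial
  have hxW' : pH (f x) ∈ W := hxW
  obtain ⟨U, hU, eU, n, hxU, -, hbC⟩ := exists_chart pH hW ⊤ (f x) trivial hxW'
  obtain ⟨V, hV, eV, m, hxV, hVU, hbB⟩ := exists_chart (f ≫ pH) hW (f ⁻¹ᵁ U) x hxU hxW
  refine ⟨⟨U, hU⟩, ⟨V, hV⟩, hxV, hVU, ?_⟩
  let A := Γ(S, W)
  let C := Γ(H, U)
  let B := Γ(G, V)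
  letI : Algebra A C := (pH.appLE W U eU).hom.toAlgebra
  letI : Algebra A B := ((f ≫ pH).appLE W V eV).hom.toAlgebra
  letI : Algebra C B := (f.appLE U V hVU).hom.toAlgebra
  haveI : IsScalarTower A C B := IsScalarTower.of_algebraMap_eq' (by
    refine congrArg CommRingCat.Hom.hom (show (f ≫ pH).appLE W V eV = pH.appLE W U eU ≫ f.appLE U V hVU from ?_)
    rw [Scheme.Hom.appLE_comp_appLE])
  haveI : Algebra.Smooth A B := (f ≫ pH).smooth_appLE hW hV eV
  haveI : IsNoetherianRing B := IsLocallyNoetherian.component_noetherian ⟨V, hV⟩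
  obtain ⟨bC⟩ := hbC
  obtain ⟨bB⟩ := hbB
  -- basic opens of the chart inside `D`
  have key : ∀ t : B, G.basicOpen t ≤ D → Algebra.Etale C (Localization.Away t) := by
    intro t ht
    let V' := G.basicOpen t
    have e' : V' ≤ f ⁻¹ᵁ U := (G.basicOpen_le t).trans hVU
    let D' : D.toScheme.Opens := D.ι ⁻¹ᵁ V'
    have hD' : IsAffineOpen D' := (hV.basicOpen t).preimage_of_isOpenImmersion D.ι
      (by rw [Scheme.Opens.opensRange_ι]; exact ht)
    have h := (D.ι ≫ f).etale_appLE hU hD' (show D' ≤ (D.ι ≫ f) ⁻¹ᵁ U from fun y hy => e' hy)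
    haveI : IsIso (D.ι.appLE V' D' le_rfl) := by
      rw [← Scheme.Hom.app_eq_appLE]
      exact Scheme.Hom.isIso_app D.ι V' (by rw [Scheme.Opens.opensRange_ι]; exact ht)
    rw [← Scheme.Hom.appLE_comp_appLE D.ι f U V' D' e' le_rfl] at h
    have h' : (f.appLE U V' e').hom.Etale := (RingHom.Etale.respectsIso.cancel_right_isIso _ _).1 h
    letI : Algebra C Γ(G, V') := (f.appLE U V' e').hom.toAlgebra
    haveI : Algebra.Etale C Γ(G, V') := h'
    haveI := hV.isLocalization_basicOpen t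
    haveI : IsScalarTower C B Γ(G, V') := IsScalarTower.of_algebraMap_eq' (by
      exact congrArg CommRingCat.Hom.hom (f.appLE_map hVU (homOfLE (G.basicOpen_le t)).op).symm)
    exact Algebra.Etale.of_equiv ((Localization.algEquiv (Submonoid.powers t) Γ(G, V')).restrictScalars C).symm
  have hnm : n = m := by
    obtain ⟨z, hzV, hzD⟩ := hD.inter_open_nonempty _ V.2 ⟨x, hxV⟩
    obtain ⟨t, htD, hzt⟩ := hV.exists_basicOpen_le (⟨z, hzD⟩ : D) hzV
    haveI := key t htD
    haveI : Nontrivial (Localization.Away t) := by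
      haveI := hV.isLocalization_basicOpen t
      haveI : Nonempty (G.basicOpen t) := ⟨⟨z, hzt⟩⟩
      exact (Localization.algEquiv (Submonoid.powers t) Γ(G, G.basicOpen t)).toEquiv.nontrivial
    haveI : Algebra.FormallyEtale B (Localization.Away t) := Algebra.FormallyEtale.of_isLocalization (Submonoid.powers t)
    exact rank_eq_of_etale A C B (Localization.Away t) bC bB
  subst hnm
  haveI : Algebra.FormallyEtale C B := by
    refine formallyEtale_of_unramified_height_le_one A C B bC bB fun P hP hht => ?_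
    let y := hV.fromSpec ⟨P, hP⟩
    have hyV : y ∈ V := hV.range_fromSpec.le ⟨_, rfl⟩
    have hdim : ringKrullDim (G.presheaf.stalk y) ≤ 1 := by
      letI : Algebra Γ(G, V) (G.presheaf.stalk y) := (G.presheaf.germ V y hyV).hom.toAlgebra
      haveI : IsLocalization.AtPrime (G.presheaf.stalk y) P := hV.isLocalization_stalk' ⟨P, hP⟩ hyV
      rw [IsLocalization.AtPrime.ringKrullDim_eq_height P]
      exact_mod_cast hht
    obtain ⟨t, htD, hyt⟩ := hV.exists_basicOpen_le (⟨y, hcodim y hdim⟩ : D) hyV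
    have htP : (⟨P, hP⟩ : PrimeSpectrum B) ∈ PrimeSpectrum.basicOpen t := by
      rw [← hV.fromSpec_preimage_basicOpen]
      exact hyt
    haveI := key t htD
    exact (Algebra.basicOpen_subset_unramifiedLocus_iff.2 inferInstance htP : _ ∈ Algebra.unramifiedLocus C B)
  haveI : Algebra.FinitePresentation C B := f.finitePresentation_appLE hU hV hVU
  haveI : Algebra.Etale C B := {}
  exact RingHom.etale_algebraMap.2 this

end EtaleDetLib
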